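import Cfsg.Agent.M24Rec.Fischer
import Cfsg.Agent.USixType.CoreDone
import Cfsg.Agent.Leech.MonsterSection.Local
import Cfsg.Agent.Components.GenFitting

/-!
# A group of large Fischer type inside a group in which it has index two
-/

set_option autoImplicit false
set_option linter.style.haveILetI false
set_option linter.unusedSectionVars false

open Subgroup
open scoped commutatorElement

namespace Cfsg.Lib.FiMonster

universe u

/-- The centralisers of corresponding elements. -/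
def centEquiv {A B : Type u} [Group A] [Group B] (φ : A ≃* B) (t : A) :
    ↥(centralizer ({t} : Set A)) ≃* ↥(centralizer ({φ t} : Set B)) where
  toFun c := ⟨φ c, mem_centralizer_singleton_iff.mpr (by
    rw [← map_mul, ← map_mul, mem_centralizer_singleton_iff.mp c.2])⟩
  invFun c := ⟨φ.symm c, mem_centralizer_singleton_iff.mpr (φ.injective (by
    rw [map_mul, map_mul, φ.apply_symm_apply, mem_centralizer_singleton_iff.mp c.2]))⟩
  left_inv c := Subtype.ext (φ.symm_apply_apply _)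
  right_inv c := Subtype.ext (φ.apply_symm_apply _)
  map_mul' a b := Subtype.ext (map_mul φ _ _)

/-- Large Fischer type along an isomorphism. -/
theorem type_transport {A B : Type u} [Group A] [Finite A] [Group B] [Finite B] (φ : A ≃* B) {t : A}
    {R : Subgroup (centralizer ({t} : Set A))} [R.Normal] (h : Cfsg.IsOfLargeFischerTypeAt t R) :
    ∃ (R' : Subgroup (centralizer ({φ t} : Set B))) (_ : R'.Normal), Cfsg.IsOfLargeFischerTypeAt (φ t) R' ∧
      ∀ x, x ∈ R' ↔ ∃ r ∈ R, (x : B) = φ (r : A) := by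
  obtain ⟨⟨ho, hF, hex, hc, g, ⟨hq, hqR⟩, hgne⟩, N, M, hNn, hMn, hRN, hNM, hN, ⟨K, iK, iK', hK, ⟨e⟩⟩, hM⟩ := h
  set σ := centEquiv φ t with hσ
  have hs : Function.Surjective σ.toMonoidHom := σ.surjective
  haveI hR' : (R.map σ.toMonoidHom).Normal := Subgroup.Normal.map inferInstance _ hs
  haveI hN' : (N.map σ.toMonoidHom).Normal := Subgroup.Normal.map hNn _ hs
  haveI hM' : (M.map σ.toMonoidHom).Normal := Subgroup.Normal.map hMn _ hs
  have hcard : ∀ S : Subgroup (centralizer ({t} : Set A)), Nat.card ↥(S.map σ.toMonoidHom) = Nat.card ↥S :=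
    fun S => card_map_of_injective σ.injective
  refine ⟨R.map σ.toMonoidHom, hR', ⟨⟨?_, ?_, ?_, ?_, φ g, ⟨?_, ?_⟩, ?_⟩, N.map σ.toMonoidHom, M.map σ.toMonoidHom,
    hN', hM', map_mono hRN, map_mono hNM, ?_, ⟨K, iK, iK', hK, ⟨?_⟩⟩, ?_⟩, fun x => ?_⟩
  · rw [φ.orderOf_eq, ho]
  · rw [← hF, Cfsg.Lib.Components.genFitting_map_equiv]
  · exact Cfsg.Lib.LargeFischer.isExtraspecial_congr (σ.subgroupMap R) hex
  · rw [hcard, hc]
  · rw [← map_inv, ← map_mul, ← map_mul]; exact (σ ⟨_, hq⟩).2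
  · exact ⟨⟨_, hq⟩, hqR, Subtype.ext (show φ (g * t * g⁻¹) = φ g * φ t * (φ g)⁻¹ by rw [map_mul, map_mul, map_inv])⟩
  · rw [← map_inv, ← map_mul, ← map_mul]; exact fun he => hgne (φ.injective he)
  · rw [hcard, hcard, hN]
  · refine (QuotientGroup.congr (N.subgroupOf M) ((N.map σ.toMonoidHom).subgroupOf (M.map σ.toMonoidHom))
      (σ.subgroupMap M) ?_).symm.trans e
    ext ⟨y, hy⟩
    rw [mem_subgroupOf]
    constructor
    · rintro ⟨w, hw, he⟩
      rw [← he]
      exact ⟨(w : ↥(centralizer ({t} : Set A))), hw, rfl⟩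
    · rintro ⟨w, hw, he⟩
      exact ⟨⟨w, hNM hw⟩, hw, Subtype.ext he⟩
  · exact (index_map_equiv M σ).trans hM
  · constructor
    · rintro ⟨r, hr, rfl⟩
      exact ⟨r, hr, rfl⟩
    · rintro ⟨r, hr, he⟩
      exact ⟨r, hr, Subtype.ext he.symm⟩

variable {X : Type u} [Group X] [Finite X]

/-- Type M(24) from the absence of an outer element acting trivially on the quotient of the centraliser. -/
theorem type_m24_of_outer {G₀ : Subgroup X} (hidx : G₀.index = 2) {z : ↥G₀}
    {R : Subgroup (centralizer ({z} : Set ↥G₀))} [R.Normal] (hT : Cfsg.IsOfLargeFischerTypeAt z R)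
    (hout : ∀ w : X, w ∉ G₀ → Commute w (z : X) →
      ∃ c ∈ G₀, Commute c (z : X) ∧ ⁅w, c⁆ ∉ (R.map (Subgroup.subtype _)).map G₀.subtype) :
    ∃ E : Set X, Cfsg.IsThreeTranspositionClass E ∧ Cfsg.IsOfTypeM24 X E := by
  haveI : Fact (Nat.Prime 2) := ⟨Nat.prime_two⟩
  obtain ⟨⟨ho, hF, hex, hc, hnwc⟩, N, M, hNn, hMn, hRN, hNM, hN, ⟨K, iK, iK', hK, ⟨e⟩⟩, hM⟩ := hT
  have hRp : IsPGroup 2 ↥R := IsPGroup.of_card hc
  have hself : centralizer (R : Set ↥(centralizer ({z} : Set ↥G₀))) ≤ R := by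
    rw [← hF]; exact Cfsg.Lib.Components.centralizer_genFitting_le
  have hzz : z * z = 1 := by rw [← pow_two, ← ho, pow_orderOf_eq_one]
  have hz1 : z ≠ 1 := fun h => by rw [h, orderOf_one] at ho; norm_num at ho
  have hzC : z ∈ centralizer ({z} : Set ↥G₀) := mem_centralizer_singleton_iff.mpr rfl
  haveI hZn : (zpowers (⟨z, hzC⟩ : ↥(centralizer ({z} : Set ↥G₀)))).Normal := ⟨fun a ha b => by
    obtain ⟨i, rfl⟩ := mem_zpowers_iff.mp ha
    have hb : Commute b ⟨z, hzC⟩ := Subtype.ext (mem_centralizer_singleton_iff.mp b.2)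
    rw [(hb.zpow_right i).eq, mul_inv_cancel_right]
    exact zpow_mem (mem_zpowers _) i⟩
  have hzR : (⟨z, hzC⟩ : ↥(centralizer ({z} : Set ↥G₀))) ∈ R := by
    rw [← hF]
    refine Cfsg.Lib.Components.fitting_le_genFitting (Cfsg.Lib.Components.le_fitting ?_ (mem_zpowers _))
    exact (IsPGroup.of_card (p := 2) (n := 1) (by rw [Nat.card_zpowers, pow_one, Subgroup.orderOf_mk, ho])).isNilpotent
  -- the involution is central in a Sylow subgroup
  have hcenter : ∀ r : ↥(centralizer ({z} : Set ↥G₀)), r ∈ R → (∀ r' ∈ R, r' * r = r * r') →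
      r = 1 ∨ r = ⟨z, hzC⟩ := by
    intro r hr hrc
    have hmem : (⟨r, hr⟩ : ↥R) ∈ center ↥R := mem_center_iff.mpr fun r' => Subtype.ext (hrc r' r'.2)
    have hzm : (⟨⟨z, hzC⟩, hzR⟩ : ↥R) ∈ center ↥R :=
      mem_center_iff.mpr fun r' => Subtype.ext (Subtype.ext (mem_centralizer_singleton_iff.mp r'.1.2))
    have hle : zpowers (⟨⟨z, hzC⟩, hzR⟩ : ↥R) = center ↥R := eq_of_le_of_card_ge (zpowers_le.mpr hzm) (by
      rw [hex.2, Nat.card_zpowers, Subgroup.orderOf_mk, Subgroup.orderOf_mk, ho])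
    rw [← hle] at hmem
    have hzz' : (⟨⟨z, hzC⟩, hzR⟩ : ↥R) * ⟨⟨z, hzC⟩, hzR⟩ = 1 := Subtype.ext (Subtype.ext hzz)
    rcases (Cfsg.Lib.LargeExtra.mem_zpowers_two hzz').mp hmem with h | h
    · exact Or.inl (congrArg Subtype.val h)
    · exact Or.inr (congrArg Subtype.val h)
  have hcentral : ∃ P : Sylow 2 ↥G₀, z ∈ (P : Subgroup ↥G₀) ∧ ∀ x ∈ (P : Subgroup ↥G₀), Commute x z := by
    set R₀ := R.map (Subgroup.subtype _) with hR₀
    obtain ⟨S, hS⟩ := (hRp.map (Subgroup.subtype _)).exists_le_sylow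
    have hzS : z ∈ (S : Subgroup ↥G₀) := hS ⟨_, hzR, rfl⟩
    haveI : Nontrivial (S : Subgroup ↥G₀) := (nontrivial_iff_ne_bot _).mpr fun h => hz1 (mem_bot.mp (h ▸ hzS))
    haveI := S.2.center_nontrivial
    obtain ⟨c, hc1⟩ := exists_ne (1 : center (S : Subgroup ↥G₀))
    have hcs : ∀ s ∈ (S : Subgroup ↥G₀), Commute s ((c : (S : Subgroup ↥G₀)) : ↥G₀) := fun s hs =>
      congrArg Subtype.val (mem_center_iff.mp c.2 ⟨s, hs⟩)
    have hcz : ((c : (S : Subgroup ↥G₀)) : ↥G₀) ∈ centralizer ({z} : Set ↥G₀) :=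
      mem_centralizer_singleton_iff.mpr (hcs z hzS).symm.eq
    have hmem : (⟨_, hcz⟩ : ↥(centralizer ({z} : Set ↥G₀))) ∈ R :=
      hself (mem_centralizer_iff.mpr fun r hr => Subtype.ext (hcs _ (hS ⟨r, hr, rfl⟩)).eq)
    rcases hcenter _ hmem fun r hr => Subtype.ext (hcs _ (hS ⟨r, hr, rfl⟩)).eq with h | h
    · refine absurd ?_ hc1
      have h' := congrArg Subtype.val h
      exact Subtype.ext (Subtype.ext h')
    · exact ⟨S, hzS, fun s hs => by rw [← show ((c : (S : Subgroup ↥G₀)) : ↥G₀) = z from congrArg Subtype.val h]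
                                    exact hcs s hs⟩
  -- the centraliser in the larger group
  set CX := centralizer ({(z : X)} : Set X) with hCX
  set R0 := (R.map (Subgroup.subtype _)).map G₀.subtype with hR0
  have hR0le : R0 ≤ CX := by
    rintro _ ⟨_, ⟨r, -, rfl⟩, rfl⟩
    exact mem_centralizer_singleton_iff.mpr (congrArg Subtype.val (mem_centralizer_singleton_iff.mp r.2))
  have hR0G : R0 ≤ G₀ := map_subtype_le _
  haveI hG₀n : G₀.Normal := normal_of_index_eq_two hidx
  have hlift : ∀ x : X, x ∈ G₀ → Commute x (z : X) → ∃ c : ↥(centralizer ({z} : Set ↥G₀)), (((c : ↥G₀)) : X) = x :=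
    fun x hx hc' => ⟨⟨⟨x, hx⟩, mem_centralizer_singleton_iff.mpr (Subtype.ext hc'.eq)⟩, rfl⟩
  have hmemR0 : ∀ c : ↥(centralizer ({z} : Set ↥G₀)), ((c : ↥G₀) : X) ∈ R0 ↔ c ∈ R := fun c => by
    rw [hR0, show ((c : ↥G₀) : X) = G₀.subtype (c : ↥G₀) from rfl, Subgroup.mem_map_iff_mem G₀.subtype_injective,
      show (c : ↥G₀) = (centralizer ({z} : Set ↥G₀)).subtype c from rfl,
      Subgroup.mem_map_iff_mem (Subgroup.subtype_injective _)]
  set RX := R0.subgroupOf CX with hRX
  have hRXp : IsPGroup 2 ↥RX :=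
    ((hRp.map (Subgroup.subtype _)).map G₀.subtype).of_equiv (subgroupOfEquivOfLe hR0le).symm
  set C0 := G₀.subgroupOf CX with hC0
  haveI : C0.Normal := inferInstance
  -- conjugation keeps the subgroup
  have hconj : ∀ w : ↥CX, ∀ r : ↥CX, r ∈ RX → w * r * w⁻¹ ∈ RX := by
    intro w r hr
    let α : ↥(centralizer ({z} : Set ↥G₀)) →* ↥(centralizer ({z} : Set ↥G₀)) := MonoidHom.mk'
      (fun c => ⟨⟨(w : X) * ((c : ↥G₀) : X) * (w : X)⁻¹, hG₀n.conj_mem _ (c : ↥G₀).2 _⟩,
        mem_centralizer_singleton_iff.mpr (Subtype.ext (by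
          have hw : Commute (w : X) (z : X) := mem_centralizer_singleton_iff.mp w.2
          have hc' : Commute ((c : ↥G₀) : X) (z : X) := congrArg Subtype.val (mem_centralizer_singleton_iff.mp c.2)
          exact ((hw.mul_left hc').mul_left hw.inv_left).eq))⟩)
      (fun a b => Subtype.ext (Subtype.ext (by simp [mul_assoc])))
    have hinj : Function.Injective α := fun a b h => by
      have := congrArg (fun c : ↥(centralizer ({z} : Set ↥G₀)) => ((c : ↥G₀) : X)) h
      exact Subtype.ext (Subtype.ext (mul_left_cancel (mul_right_cancel this)))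
    let αe := MulEquiv.ofBijective α ⟨hinj, Finite.injective_iff_surjective.mp hinj⟩
    have hmap : R.map αe.toMonoidHom = R := by rw [← hF]; exact Cfsg.Lib.Components.genFitting_map_equiv αe
    obtain ⟨c, hc'⟩ := hlift (r : X) (hR0G hr) (mem_centralizer_singleton_iff.mp r.2)
    have h1 : αe c ∈ R := hmap ▸ ⟨c, (hmemR0 c).mp (hc' ▸ mem_subgroupOf.mp hr), rfl⟩
    have h2 := (hmemR0 _).mpr h1
    rw [show ((αe c : ↥G₀) : X) = (w : X) * ((c : ↥G₀) : X) * (w : X)⁻¹ from rfl, hc'] at h2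
    exact mem_subgroupOf.mpr h2
  haveI hRXn : RX.Normal := ⟨fun r hr w => hconj w r hr⟩
  have hinC0 : ∀ w : ↥CX, (∀ c ∈ C0, ⁅w, c⁆ ∈ RX) → w ∈ C0 := by
    intro w hw
    by_contra hwn
    obtain ⟨c, hcG, hcz, hne⟩ := hout (w : X) (fun h => hwn (mem_subgroupOf.mpr h)) (mem_centralizer_singleton_iff.mp w.2)
    exact hne (mem_subgroupOf.mp (hw ⟨c, mem_centralizer_singleton_iff.mpr hcz.eq⟩ (mem_subgroupOf.mpr hcG)))
  have hFX : (Cfsg.generalizedFittingSubgroup ↥CX).map (Subgroup.subtype _) = R0 := by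
    rw [Cfsg.Lib.Leech.MonsterSection.genFitting_eq RX hRXp (fun N' hN' hp' => ?_) (fun w hw => ?_), hRX,
      map_subgroupOf_eq_of_le hR0le]
    · set Np := N'.comap (QuotientGroup.mk' RX) with hNp
      have hNpp : IsPGroup 2 ↥Np := hp'.comap_of_ker_isPGroup _ (by rw [QuotientGroup.ker_mk']; exact hRXp)
      haveI : Np.Normal := hN'.comap _
      have hin : ∀ n ∈ Np, n ∈ C0 → n ∈ RX := by
        intro n hn hnC
        let ι : ↥(centralizer ({z} : Set ↥G₀)) →* ↥CX := MonoidHom.mk'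
          (fun c => ⟨((c : ↥G₀) : X), mem_centralizer_singleton_iff.mpr
            (congrArg Subtype.val (mem_centralizer_singleton_iff.mp c.2))⟩) (fun a b => rfl)
        have hι : Function.Injective ι := fun a b h => by
          have h' := congrArg (fun v : ↥CX => (v : X)) h
          exact Subtype.ext (Subtype.ext h')
        have hle : Np.comap ι ≤ R := by
          rw [← hF]
          haveI : (Np.comap ι).Normal := Subgroup.Normal.comap inferInstance ι
          exact le_trans (Cfsg.Lib.Components.le_fitting (hNpp.comap_of_injective ι hι).isNilpotent)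
            Cfsg.Lib.Components.fitting_le_genFitting
        obtain ⟨c, hc'⟩ := hlift (n : X) (mem_subgroupOf.mp hnC) (mem_centralizer_singleton_iff.mp n.2)
        have h1 : c ∈ R := hle (show ι c ∈ Np by rw [show ι c = n from Subtype.ext hc']; exact hn)
        exact mem_subgroupOf.mpr (hc' ▸ (hmemR0 c).mpr h1)
      have hNle : Np ≤ RX := fun n hn => hin n hn (hinC0 n fun c hc' => hin _
        (commutator_le_left Np ⊤ (commutator_mem_commutator hn (mem_top c)))
        (commutator_le_right ⊤ C0 (commutator_mem_commutator (mem_top n) hc')))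
      rw [eq_bot_iff]
      intro q hq
      obtain ⟨n, rfl⟩ := QuotientGroup.mk'_surjective RX q
      exact (QuotientGroup.eq_one_iff n).mpr (hNle hq)
    · have hcen : ∀ r : ↥CX, r ∈ RX → r * w = w * r := fun r hr => mem_centralizer_iff.mp hw r hr
      have hin : ∀ n : ↥CX, n ∈ C0 → (∀ r ∈ RX, r * n = n * r) → n ∈ RX := by
        intro n hnC hn
        obtain ⟨c, hc'⟩ := hlift (n : X) (mem_subgroupOf.mp hnC) (mem_centralizer_singleton_iff.mp n.2)
        refine mem_subgroupOf.mpr (hc' ▸ (hmemR0 c).mpr (hself (mem_centralizer_iff.mpr fun r hr => ?_)))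
        have h1 : (⟨_, hR0le ((hmemR0 r).mpr hr)⟩ : ↥CX) * n = n * ⟨_, hR0le ((hmemR0 r).mpr hr)⟩ :=
          hn _ (mem_subgroupOf.mpr ((hmemR0 r).mpr hr))
        refine Subtype.ext (Subtype.ext ?_)
        show ((r : ↥G₀) : X) * ((c : ↥G₀) : X) = ((c : ↥G₀) : X) * ((r : ↥G₀) : X)
        rw [hc']
        exact congrArg Subtype.val h1
      refine hin w (hinC0 w fun c hc' => hin _ (commutator_le_right ⊤ C0
        (commutator_mem_commutator (mem_top w) hc')) fun r hr => ?_) hcen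
      have hr' : c⁻¹ * r * c ∈ RX := by simpa using hRXn.conj_mem r hr c⁻¹
      have e1 : Commute r w := hcen r hr
      have e2 : Commute (c⁻¹ * r * c) w := hcen _ hr'
      have e3 : Commute r (c * w * c⁻¹) := by
        have := (Commute.conj_iff c).mpr e2
        rwa [show c * (c⁻¹ * r * c) * c⁻¹ = r by group] at this
      rw [show ⁅w, c⁆ = w * (c * w * c⁻¹)⁻¹ by rw [commutatorElement_def]; group]
      exact (e1.mul_right e3.inv_right).eq
  exact Cfsg.Lib.M24Rec.aut_f24_type Cfsg.Lib.USixType.coreGoal G₀ hidx z ho R N M hF hex hc hRN hNM hN K hK e hM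
    hnwc hcentral hFX

end Cfsg.Lib.FiMonster
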