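import Cfsg.Agent.Leech.MonsterSection.TopCentral
import Cfsg.Agent.OddLocal.SigmaOrderP

/-!
# The subgroups of order three central in a Sylow subgroup of the centraliser of a fused pair
-/

set_option autoImplicit false
set_option maxRecDepth 100000
set_option linter.style.haveILetI false
set_option linter.unusedSectionVars false

open scoped commutatorElement

namespace Cfsg.Lib.FiMonster

open Cfsg Cfsg.Lib.Golay Cfsg.Lib.PermCert Cfsg.Lib.Leech Cfsg.Lib.Leech.MonsterSection

theorem noncommuting_check : (cgSyl3.gens.all fun g => cgSyl3.gens.all fun h => (List.range 24).all fun i =>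
    ap g.1.1 (ap h.1.1 i) == ap h.1.1 (ap g.1.1 i)) = false := by
  decide +kernel

/-- A subgroup of order 27 of the Mathieu group is not commutative. -/
theorem twentyseven_nonabelian {P : Subgroup M24} (hP : Nat.card P = 27) : ∃ a ∈ P, ∃ b ∈ P, a * b ≠ b * a := by
  by_contra hcon
  push Not at hcon
  haveI : Fact (Nat.Prime 3) := ⟨Nat.prime_three⟩
  obtain ⟨-, hgen, hsz⟩ := centerCheck
  have hcl := (CG.ok_spec cgSyl3_ok).2.2
  have hle : cgSyl3.grp ≤ M24 := by
    rw [← hcl, Subgroup.closure_le]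
    rintro _ ⟨g, hg, rfl⟩
    exact toP_mem_M24 (List.all_eq_true.mp hgen g hg)
  have hfac : (Nat.card M24).factorization 3 = 3 := by
    rw [card_M24, show (244823040 : ℕ) = 3 ^ 3 * 9067520 by norm_num, Nat.factorization_mul (by norm_num) (by norm_num),
      Finsupp.add_apply, Nat.factorization_pow, Finsupp.smul_apply, Nat.prime_three.factorization_self,
      Nat.factorization_eq_zero_of_not_dvd (by norm_num : ¬ 3 ∣ 9067520)]
    rfl
  have h0 : Nat.card (cgSyl3.grp.subgroupOf M24) = 3 ^ (Nat.card M24).factorization 3 := by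
    rw [Nat.card_congr (Subgroup.subgroupOfEquivOfLe hle).toEquiv, CG.card_grp cgSyl3_ok, hsz, hfac]; norm_num
  have h1 : Nat.card P = 3 ^ (Nat.card M24).factorization 3 := by rw [hP, hfac]; norm_num
  obtain ⟨τ, hτ⟩ := MulAction.exists_smul_eq M24 (Sylow.ofCard P h1) (Sylow.ofCard _ h0)
  have hpre : ∀ g ∈ cgSyl3.gens, ∃ p ∈ P, ((τ * p * τ⁻¹ : M24) : Equiv.Perm GolayPt) = toP g.1 := by
    intro g hg
    have hgm : toP g.1 ∈ cgSyl3.grp := hcl ▸ Subgroup.subset_closure ⟨g, hg, rfl⟩
    have h2 : (⟨toP g.1, hle hgm⟩ : M24) ∈ (Sylow.ofCard _ h0 : Subgroup M24) := hgm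
    rw [← hτ, Sylow.coe_subgroup_smul] at h2
    obtain ⟨p, hp, e⟩ := h2
    exact ⟨p, hp, congrArg Subtype.val e⟩
  have hall : (cgSyl3.gens.all fun g => cgSyl3.gens.all fun h => (List.range 24).all fun i =>
      ap g.1.1 (ap h.1.1 i) == ap h.1.1 (ap g.1.1 i)) = true := by
    simp only [List.all_eq_true, List.mem_range, beq_iff_eq]
    intro g hg h hh i hi
    obtain ⟨p, hp, ep⟩ := hpre g hg
    obtain ⟨q, hq, eq⟩ := hpre h hh
    have e : toP g.1 * toP h.1 = toP h.1 * toP g.1 := by
      rw [← ep, ← eq, ← Subgroup.coe_mul, ← Subgroup.coe_mul]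
      refine congrArg Subtype.val ?_
      calc τ * p * τ⁻¹ * (τ * q * τ⁻¹) = τ * (p * q) * τ⁻¹ := by group
        _ = τ * (q * p) * τ⁻¹ := by rw [hcon p hp q hq]
        _ = _ := by group
    have hv : ∀ k ∈ cgSyl3.gens, valid 24 k.1 = true := fun k hk => by
      have := List.all_eq_true.mp hgen k hk
      simp only [preserves, Bool.and_eq_true] at this
      exact this.1
    have e2 := congrArg (fun f : Equiv.Perm GolayPt => pidx (f (ptAt i))) e
    simp only [Equiv.Perm.mul_apply, pidx_toP (hv g hg), pidx_toP (hv h hh),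
      show pidx (ptAt i) = i from pidx_ptAt ⟨i, hi⟩] at e2
    exact e2
  rw [noncommuting_check] at hall
  exact Bool.false_ne_true hall

variable {G : Type*} [Group G] [Finite G] {z : G} {Q : Subgroup (Subgroup.centralizer ({z} : Set G))} [Q.Normal]
  {e : (Subgroup.centralizer ({z} : Set G)) ⧸ Q ≃* Spor.Co1} {ψ : leechLattice → Q ⧸ Subgroup.center Q}

/-- A central element of order three in a nonabelian group of order 27 is a commutator product. -/
theorem mem_commutator_cube {H : Type*} [Group H] [Finite H] (hH : Nat.card H = 27) (hn : ∃ a b : H, a * b ≠ b * a)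
    {x : H} (hx : x ∈ Subgroup.center H) : x ∈ _root_.commutator H := by
  haveI : Fact (Nat.Prime 3) := ⟨Nat.prime_three⟩
  have hp : IsPGroup 3 H := IsPGroup.of_card (n := 3) (by rw [hH]; norm_num)
  have h27 : Nat.card H = 3 ^ 3 := by rw [hH]; norm_num
  have hle : _root_.commutator H ≤ Subgroup.center H :=
    Cfsg.Lib.OddLocal.RankTwoMax.commutator_le_center_of_card_cube (p := 3) h27
  obtain ⟨k, hk0, hk⟩ := IsPGroup.card_center_eq_prime_pow h27 (by norm_num)
  have hk1 : k ≤ 1 := by
    by_contra hlt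
    obtain ⟨a, b, hab⟩ := hn
    have h := Subgroup.card_eq_card_quotient_mul_card_subgroup (Subgroup.center H)
    have hq : Nat.card (H ⧸ Subgroup.center H) ∣ 3 := by
      rw [h27, hk] at h
      refine ⟨3 ^ (k - 2), Nat.eq_of_mul_eq_mul_right (show 0 < 9 by norm_num) ?_⟩
      rw [mul_assoc, show 3 ^ (k - 2) * 9 = 3 ^ k by
        rw [show (9 : ℕ) = 3 ^ 2 by norm_num, ← pow_add]; congr 1; omega, ← h]
      norm_num
    haveI : IsCyclic (H ⧸ Subgroup.center H) := by
      rcases (Nat.dvd_prime Nat.prime_three).mp hq with h | h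
      · haveI := (Nat.card_eq_one_iff_unique.mp h).1
        exact isCyclic_of_subsingleton
      · exact isCyclic_of_prime_card h
    exact hab (commutative_of_cyclic_center_quotient (QuotientGroup.mk' (Subgroup.center H))
      (le_of_eq (QuotientGroup.ker_mk' _)) a b)
  have hne : _root_.commutator H ≠ ⊥ := fun h => by
    obtain ⟨a, b, hab⟩ := hn
    have h1 : ⁅a, b⁆ ∈ _root_.commutator H :=
      Subgroup.commutator_mem_commutator (Subgroup.mem_top a) (Subgroup.mem_top b)
    rw [h, Subgroup.mem_bot, commutatorElement_eq_one_iff_commute] at h1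
    exact hab h1
  have heq : _root_.commutator H = Subgroup.center H := by
    refine Subgroup.eq_of_le_of_card_ge hle ?_
    obtain ⟨j, hj⟩ := (hp.to_subgroup (_root_.commutator H)).exists_card_eq
    rw [hk, hj]
    refine Nat.pow_le_pow_right (by norm_num) ?_
    rcases Nat.eq_zero_or_pos j with rfl | hj0
    · exact absurd ((Subgroup.eq_bot_iff_card _).mpr (by rw [hj, pow_zero])) hne
    · omega
  exact heq ▸ hx

/-- Elements central in a subgroup of order 27 of the centraliser of the pair are commutator products there and are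
inverted in that centraliser. -/
theorem three_central_facts (hw : IsExtraspecialCentralizerSetting z Q 12) (hψ : IsLeechModTwoIso Q e ψ) {a : Q}
    (hc : IsConj z ((a : Subgroup.centralizer ({z} : Set G)) : G))
    (hne : ((a : Subgroup.centralizer ({z} : Set G)) : G) ≠ z) {x : G} (hx : orderOf x = 3)
    (h3 : ThreeCentral z ((a : Subgroup.centralizer ({z} : Set G)) : G) x) :
    (∃ P : Subgroup G, P ≤ Subgroup.centralizer ({z, ((a : Subgroup.centralizer ({z} : Set G)) : G)} : Set G) ∧
      (∀ p ∈ P, p * x = x * p) ∧ x ∈ ⁅P, P⁆) ∧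
    ∃ w ∈ Subgroup.centralizer ({z, ((a : Subgroup.centralizer ({z} : Set G)) : G)} : Set G),
      w * x * w⁻¹ = x⁻¹ := by
  classical
  haveI : Fact (Nat.Prime 3) := ⟨Nat.prime_three⟩
  obtain ⟨P, hPle, hPc, hxP, hcen⟩ := h3
  obtain ⟨g, k, -, ha, hv⟩ := fused_frame hw hψ hc hne
  have hker := theta_ker hw hψ hv
  set P' := P.comap (inG a) with hP'
  have hrange : P ≤ (inG a).range := by rw [range_inG a]; exact hPle
  have hP'c : Nat.card P' = 27 := by
    rw [hP', ← hPc]
    refine Nat.card_congr (Equiv.ofBijective (fun x => (⟨inG a x.1, x.2⟩ : P)) ⟨fun x y h => ?_, fun y => ?_⟩)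
    · exact Subtype.ext (inG_injective a (congrArg (fun z : P => (z : G)) h))
    · obtain ⟨x, hx⟩ := hrange y.2
      exact ⟨⟨x, by show inG a x ∈ P; rw [hx]; exact y.2⟩, Subtype.ext hx⟩
  have hinj : Function.Injective ((theta e hψ hv).subgroupMap P') := by
    refine (injective_iff_map_eq_one _).mpr fun y hy => ?_
    have hyk : (y : CQa a) ∈ (theta e hψ hv).ker := congrArg Subtype.val hy
    obtain ⟨i, hi⟩ := hker ⟨_, hyk⟩
    have h27 : y ^ 27 = 1 := hP'c ▸ pow_card_eq_one'
    have h2 : orderOf y ∣ 2 ^ i := orderOf_dvd_of_pow_eq_one (Subtype.ext (by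
      simpa using congrArg (fun v : (theta e hψ hv).ker => (v : CQa a)) hi))
    exact orderOf_eq_one_iff.mp (Nat.eq_one_of_dvd_coprimes (Nat.Coprime.pow i 3 (by norm_num : Nat.Coprime 2 3))
      h2 (orderOf_dvd_of_pow_eq_one h27))
  have himg : Nat.card ↥(P'.map (theta e hψ hv)) = 27 := by
    rw [← hP'c]
    exact (Nat.card_congr (Equiv.ofBijective _ ⟨hinj, MonoidHom.subgroupMap_surjective _ _⟩)).symm
  refine ⟨⟨P, hPle, hcen, ?_⟩, ?_⟩
  · obtain ⟨_, ⟨p, hp, rfl⟩, _, ⟨q, hq, rfl⟩, hpq⟩ := twentyseven_nonabelian himg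
    have hn : ∃ u v : ↥P, u * v ≠ v * u := ⟨⟨inG a p, hp⟩, ⟨inG a q, hq⟩, fun h => hpq (by
      rw [← map_mul, ← map_mul, inG_injective a (show inG a (p * q) = inG a (q * p) by
        rw [map_mul, map_mul]; exact congrArg Subtype.val h)])⟩
    have h := mem_commutator_cube hPc hn (x := ⟨x, hxP⟩)
      (Subgroup.mem_center_iff.mpr fun p => Subtype.ext (hcen p p.2))
    have h2 := Subgroup.mem_map_of_mem P.subtype h
    rwa [Subgroup.map_subtype_commutator] at h2
  · obtain ⟨b, hb⟩ := hrange hxP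
    have hbo : orderOf b = 3 := by rw [← hx, ← hb]; exact (orderOf_injective (inG a) (inG_injective a) b).symm
    have hord : ∀ u : CQa a, orderOf u = 3 → orderOf ((theta e hψ hv u : M24) : Equiv.Perm GolayPt) = 3 :=
      fun u hu => by
        rw [Subgroup.orderOf_coe]
        exact pow_order_map _ hker Nat.prime_three ⟨1, rfl⟩ hu
    have hbP : b ∈ P' := by show inG a b ∈ P; rw [hb]; exact hxP
    have h6 : ∀ u ∈ P', (∀ p ∈ P', p * u = u * p) → orderOf u = 3 →
        fixCard ((theta e hψ hv u : M24) : Equiv.Perm GolayPt) = 6 := by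
      intro u hu hcu huo
      refine six_of_central himg ⟨u, hu, rfl⟩ ?_ (pow_order_map _ hker Nat.prime_three ⟨1, rfl⟩ huo)
      rintro _ ⟨p, hp, rfl⟩
      rw [← map_mul, hcu p hp, map_mul]
    have hcb : ∀ p ∈ P', p * b = b * p := fun p hp => inG_injective a (by
      rw [map_mul, map_mul, hb]; exact hcen _ hp)
    have hcbi : ∀ p ∈ P', p * b⁻¹ = b⁻¹ * p := fun p hp => (Commute.inv_right (hcb p hp)).eq
    have hbio : orderOf b⁻¹ = 3 := by rw [orderOf_inv, hbo]
    have hf1 := h6 b hbP hcb hbo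
    have hf2 := h6 b⁻¹ (inv_mem hbP) hcbi hbio
    obtain ⟨g1, hg1, k1⟩ := three_classes (theta e hψ hv b).2 (hord b hbo)
    obtain ⟨g2, hg2, k2⟩ := three_classes (theta e hψ hv b⁻¹).2 (hord _ hbio)
    have e1 := (k1.resolve_right fun h => by omega).1
    have e2 := (k2.resolve_right fun h => by omega).1
    obtain ⟨u, hu⟩ := theta_surjective hw hψ ha hv (⟨g2 * g1⁻¹, mul_mem hg2 (inv_mem hg1)⟩ : M24)
    have hth : theta e hψ hv (u * b * u⁻¹) = theta e hψ hv b⁻¹ := by
      rw [map_mul, map_mul, map_inv, hu]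
      refine Subtype.ext ?_
      simp only [Subgroup.coe_mul, Subgroup.coe_inv]
      rw [e1, e2]; group
    obtain ⟨q, -, hq⟩ := conj_in_fibre (theta e hψ hv) hker Nat.prime_three ⟨1, rfl⟩ hbio
      ((orderOf_injective (MulAut.conj u).toMonoidHom (MulAut.conj u).injective b).trans hbo) hth
    refine ⟨inG a (q * u), by rw [← range_inG a]; exact ⟨_, rfl⟩, ?_⟩
    rw [← hb, ← map_inv (inG a), ← map_inv (inG a) b, ← map_mul, ← map_mul]
    congr 1
    rw [← hq]
    show q * u * b * (q * u)⁻¹ = q * (u * b * u⁻¹) * q⁻¹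
    group

end Cfsg.Lib.FiMonster
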