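import Cfsg.Agent.FiMonster.SectionAt
import Cfsg.Agent.FiMonster.Setup
import Cfsg.Agent.FiMonster.Generic
import Cfsg.Agent.Leech.MonsterSection.BigTarget
import Cfsg.Agent.FiPrime.Main
import Cfsg.Agent.FiFour.Simple
import Cfsg.Agent.JankoFour.Group

/-!
# The centraliser and normaliser of a subgroup of order three in a group of Monster type
-/

set_option autoImplicit false
set_option maxRecDepth 100000
set_option maxHeartbeats 1000000
set_option linter.style.haveILetI false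
set_option linter.unusedSectionVars false

open Cfsg Cfsg.Lib.Leech Cfsg.Lib.Leech.MonsterSection
open Cfsg.Lib.Golay (pidx)
open scoped commutatorElement

namespace Cfsg.Lib.FiMonster

universe u

variable {G : Type u} [Group G] [Finite G]

theorem big_x_order : orderOf (permPart ⟨bigD.x, x_mem_mono bigCls⟩ : Equiv.Perm GolayPt) = 3 := by
  haveI : Fact (Nat.Prime 3) := ⟨Nat.prime_three⟩
  refine orderOf_eq_prime ?_ fun h => ?_
  · rw [← Subgroup.coe_pow, ← map_pow,
      show (⟨bigD.x, x_mem_mono bigCls⟩ : monoGroup) ^ 3 = 1 from Subtype.ext (x_pow_r bigCls), map_one,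
      Subgroup.coe_one]
  · obtain ⟨i, hi, hne⟩ := bigBOK.moved
    rw [permPart_x bigCls] at h
    have h1 := congrArg Cfsg.Lib.Golay.pidx
      ((Cfsg.Lib.Golay.toP_ptAt (valid_sig bigCls) hi).symm.trans
        (Equiv.congr_fun h (Cfsg.Lib.Golay.ptAt i)))
    rw [Equiv.Perm.one_apply, show Cfsg.Lib.Golay.pidx (Cfsg.Lib.Golay.ptAt i) = i from
      Cfsg.Lib.Golay.pidx_ptAt ⟨i, hi⟩, show Cfsg.Lib.Golay.pidx (Cfsg.Lib.Golay.ptAt _) = _ from
      Cfsg.Lib.Golay.pidx_ptAt ⟨_, Cfsg.Lib.PermCert.valid_lt (valid_sig bigCls) hi⟩] at h1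
    exact hne h1

variable {z : G} {Q : Subgroup (Subgroup.centralizer ({z} : Set G))} [Q.Normal]

theorem threeCentral_of_sylow (hw : IsExtraspecialCentralizerSetting z Q 12)
    {e : (Subgroup.centralizer ({z} : Set G)) ⧸ Q ≃* Spor.Co1} {ψ : leechLattice → Q ⧸ Subgroup.center Q}
    (hψ : IsLeechModTwoIso Q e ψ) {a : Q} (hs : IsConj z ((a : Subgroup.centralizer ({z} : Set G)) : G))
    (hs1 : ((a : Subgroup.centralizer ({z} : Set G)) : G) ≠ z) {Y : Subgroup G}
    (hY : Y ≤ Subgroup.centralizer ({z, ((a : Subgroup.centralizer ({z} : Set G)) : G)} : Set G))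
    (hc : ∃ P : Sylow 3 ↥(Subgroup.centralizer ({z, ((a : Subgroup.centralizer ({z} : Set G)) : G)} : Set G)),
      Y.subgroupOf (Subgroup.centralizer ({z, ((a : Subgroup.centralizer ({z} : Set G)) : G)} : Set G)) ≤
        (Subgroup.center ↥(P : Subgroup ↥(Subgroup.centralizer ({z, ((a : Subgroup.centralizer ({z} : Set G)) : G)} : Set G)))).map
          (P : Subgroup ↥(Subgroup.centralizer ({z, ((a : Subgroup.centralizer ({z} : Set G)) : G)} : Set G))).subtype) :
    ∀ b ∈ Y, ThreeCentral z ((a : Subgroup.centralizer ({z} : Set G)) : G) b := by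
  intro b hbY
  haveI : Fact (Nat.Prime 3) := ⟨Nat.prime_three⟩
  set L := Subgroup.centralizer ({z, ((a : Subgroup.centralizer ({z} : Set G)) : G)} : Set G) with hL
  obtain ⟨P, hP⟩ := hc
  refine ⟨(P : Subgroup L).map L.subtype, Subgroup.map_subtype_le _, ?_, ?_, ?_⟩
  · rw [Subgroup.card_map_of_injective L.subtype_injective, P.card_eq_multiplicity, hL,
      card_pair hw hψ hs hs1 (r := 3) (by norm_num) (by decide),
      show (244823040 : ℕ) = 3 ^ 3 * 9067520 by norm_num, Nat.factorization_mul (by norm_num) (by norm_num),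
      Finsupp.add_apply, (Nat.Prime.factorization_pow (by norm_num)), Finsupp.single_eq_same,
      Nat.factorization_eq_zero_of_not_dvd (by norm_num : ¬ 3 ∣ 9067520)]
    norm_num
  · obtain ⟨w, -, hw'⟩ := hP (show (⟨b, hY hbY⟩ : L) ∈ Y.subgroupOf L from hbY)
    exact ⟨_, w.2, congrArg Subtype.val hw'⟩
  · rintro _ ⟨p, hp, rfl⟩
    obtain ⟨w, hwc, hw'⟩ := hP (show (⟨b, hY hbY⟩ : L) ∈ Y.subgroupOf L from hbY)
    have h1 := congrArg (fun x : (P : Subgroup L) => ((x : L) : G)) (Subgroup.mem_center_iff.mp hwc ⟨p, hp⟩)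
    have h2 : ((w : L) : G) = b := congrArg Subtype.val hw'
    simpa [h2] using h1

theorem main (hM : Cfsg.IsOfMonsterType z Q) {a : Q} (hs : IsConj z ((a : Subgroup.centralizer ({z} : Set G)) : G))
    (hs1 : ((a : Subgroup.centralizer ({z} : Set G)) : G) ≠ z) (Y : Subgroup G)
    (hY : Y ≤ Subgroup.centralizer ({z, ((a : Subgroup.centralizer ({z} : Set G)) : G)} : Set G))
    (hY3 : Nat.card Y = 3)
    (hc : ∃ P : Sylow 3 ↥(Subgroup.centralizer ({z, ((a : Subgroup.centralizer ({z} : Set G)) : G)} : Set G)),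
      Y.subgroupOf (Subgroup.centralizer ({z, ((a : Subgroup.centralizer ({z} : Set G)) : G)} : Set G)) ≤
        (Subgroup.center ↥(P : Subgroup ↥(Subgroup.centralizer ({z, ((a : Subgroup.centralizer ({z} : Set G)) : G)} : Set G)))).map
          (P : Subgroup ↥(Subgroup.centralizer ({z, ((a : Subgroup.centralizer ({z} : Set G)) : G)} : Set G))).subtype)
    [hn : (Y.subgroupOf (Subgroup.centralizer (Y : Set G))).Normal]
    [hn' : (Y.subgroupOf (Subgroup.normalizer (Y : Set G))).Normal] :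
    Cfsg.IsQuasisimple ↥(Subgroup.centralizer (Y : Set G)) ∧
      Cfsg.Spor.IsoFi24' (↥(Subgroup.centralizer (Y : Set G)) ⧸ Y.subgroupOf (Subgroup.centralizer (Y : Set G))) ∧
      ∃ E : Set (↥(Subgroup.normalizer (Y : Set G)) ⧸ Y.subgroupOf (Subgroup.normalizer (Y : Set G))),
        Cfsg.IsThreeTranspositionClass E ∧ Cfsg.IsOfTypeM24 _ E := by
  classical
  obtain ⟨hw, e, ψ, hψ⟩ := hM
  haveI : Fact (Nat.Prime 3) := ⟨Nat.prime_three⟩
  set s := ((a : Subgroup.centralizer ({z} : Set G)) : G) with hs_def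
  have hadm := threeCentral_of_sylow hw hψ hs hs1 hY hc
  -- the standard generator
  haveI : Nontrivial Y := Finite.one_lt_card_iff_nontrivial.mp (by rw [hY3]; norm_num)
  obtain ⟨⟨x0, hx0⟩, hx1⟩ := exists_ne (1 : Y)
  have hx0' : x0 ≠ 1 := fun h => hx1 (Subtype.ext h)
  obtain ⟨hxc, hxa⟩ := mem_pair (a := a) (hY hx0)
  have hr : bigD.r = 3 := rfl
  have hox : orderOf x0 = 3 := by
    have h1 : orderOf x0 ∣ 3 := hY3 ▸ Subgroup.orderOf_dvd_natCard Y hx0
    exact ((Nat.dvd_prime Nat.prime_three).mp h1).resolve_left fun h => hx0' (orderOf_eq_one_iff.mp h)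
  have hcls := classHyp_central hw hψ bigCls hr (by decide +kernel) big_x_order
  obtain ⟨i, hi, k, -, himg⟩ := hcls a hs hs1 ⟨⟨x0, hxc⟩, hxa⟩
    (by rw [← Subgroup.orderOf_coe, ← Subgroup.orderOf_coe]; exact hox.trans hr.symm) (hadm x0 hx0)
  set bb : CQa a := (⟨⟨x0, hxc⟩, hxa⟩ : CQa a) ^ i with hbb
  set b : Subgroup.centralizer ({z} : Set G) := bb.1 with hb'
  have hbo : orderOf b = bigD.r := by rw [hb', Subgroup.orderOf_coe]; exact hi
  set x : G := (b : G) with hx
  have hbG : x = x0 ^ i := by simp [hx, hb', hbb]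
  have hbY : x ∈ Y := hbG ▸ Subgroup.zpow_mem _ hx0 _
  have hox' : orderOf x = 3 := by rw [hx, Subgroup.orderOf_coe, hbo, hr]
  have hBb : Y = Subgroup.zpowers x := (Subgroup.eq_of_le_of_card_ge (Subgroup.zpowers_le.mpr hbY) (by
    rw [Nat.card_zpowers, hox', hY3])).symm
  have hb1 : x ≠ 1 := fun h => by rw [h, orderOf_one] at hox'; norm_num at hox'
  have hx3 : x ^ 3 = 1 := hox' ▸ pow_orderOf_eq_one x
  have hmemC : ∀ g : G, g ∈ Subgroup.centralizer (Y : Set G) ↔ g * x = x * g := by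
    intro g
    rw [hBb, Subgroup.mem_centralizer_iff]
    constructor
    · exact fun h => (h _ (Subgroup.mem_zpowers _)).symm
    · intro h y hy
      obtain ⟨j, rfl⟩ := Subgroup.mem_zpowers_iff.mp hy
      exact ((Commute.zpow_right (show Commute g x from h) j).symm).eq
  have hxz : Commute x z := Subgroup.mem_centralizer_singleton_iff.mp b.2
  have hzC : z ∈ Subgroup.centralizer (Y : Set G) := (hmemC z).mpr hxz.symm.eq
  obtain ⟨c, hcb, hcs⟩ := swap hw hψ bigCls bigRep.prime bigNondeg (ThreeCentral z s) (a := a) hs hs1 (b := bb) hi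
    (hadm _ hbY) (fun t h1 h2 => threeCentral_trans s _ (hadm _ hbY) t h1 h2) (fun b' h1 h2 => hcls a hs hs1 b' h1 h2)
  obtain ⟨R, hRn, hS, hiso, hRmem⟩ := section_at hw hψ bigCls bigRep hbo himg hBb (w := 6) (by norm_num)
    (by decide +kernel) bigNondeg bigP_no_two (q0 := a) (mem_CQa.mp bb.2).symm hs1 ⟨c, (hmemC c).mpr hcb, hcs⟩ hzC
  obtain ⟨iso⟩ := hiso
  obtain ⟨N, M, hNn, hMn, hRN, hNM, hN, ⟨K, iK, iK', hK, ⟨eK⟩⟩, hMidx⟩ := large_shape R iso
  obtain ⟨hto, htF, htex, htc, htnwc⟩ := id hS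
  have hFi : Cfsg.Spor.IsoFi24' (↥(Subgroup.centralizer (Y : Set G)) ⧸ Y.subgroupOf (Subgroup.centralizer (Y : Set G))) :=
    Cfsg.Lib.FiPrime.iso_fi24' Cfsg.Lib.USixType.coreGoal _ hto R N M htF htex htc hRN hNM hN K hK eK hMidx htnwc
  -- quasisimple
  set CY := Subgroup.centralizer (Y : Set G) with hCY
  set YC := Y.subgroupOf CY with hYC
  obtain ⟨⟨Pc, hPc, hPx, hxP⟩, w0, hw0, hw0x⟩ := three_central_facts hw hψ hs hs1 hox' (hadm _ hbY)
  have hsimple : IsSimpleGroup (↥CY ⧸ YC) := by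
    obtain ⟨φ⟩ := hFi
    haveI : IsSimpleGroup Cfsg.Spor.Fi24' := Cfsg.Lib.FiFour.isFi24'.1
    exact φ.isSimpleGroup
  have hnab : ¬ ∀ u v : ↥CY ⧸ YC, u * v = v * u := by
    intro hcomm
    have htop : Subgroup.center ↥R = ⊤ := eq_top_iff.mpr fun r _ =>
      Subgroup.mem_center_iff.mpr fun r' => Subtype.ext (Subtype.ext (hcomm _ _))
    have h2 := htex.2
    rw [htop, Subgroup.card_top, htc] at h2
    norm_num at h2
  have hYcen : YC ≤ Subgroup.center ↥CY := fun y hy =>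
    Subgroup.mem_center_iff.mpr fun g => Subtype.ext ((Subgroup.mem_centralizer_iff.mp g.2) _ hy).symm
  have hcenter : Subgroup.center ↥CY = YC := by
    refine le_antisymm ?_ hYcen
    rcases hsimple.eq_bot_or_eq_top_of_normal ((Subgroup.center ↥CY).map (QuotientGroup.mk' YC))
      (Subgroup.Normal.map inferInstance _ (QuotientGroup.mk'_surjective _)) with h | h
    · rwa [Subgroup.map_eq_bot_iff, QuotientGroup.ker_mk'] at h
    · exfalso
      refine hnab fun u v => ?_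
      obtain ⟨g, hg, rfl⟩ := (h ▸ Subgroup.mem_top u : u ∈ (Subgroup.center ↥CY).map (QuotientGroup.mk' YC))
      obtain ⟨v, rfl⟩ := QuotientGroup.mk'_surjective YC v
      rw [← map_mul, ← map_mul, Subgroup.mem_center_iff.mp hg v]
  have hPcY : Pc ≤ CY := fun p hp => (hmemC p).mpr (hPx p hp)
  have hperf : _root_.commutator ↥CY = ⊤ := by
    have hYle : YC ≤ _root_.commutator ↥CY := by
      intro y hy
      have h1 : x ∈ (_root_.commutator ↥CY).map CY.subtype := by
        rw [_root_.commutator_def, Subgroup.map_commutator, ← MonoidHom.range_eq_map, Subgroup.range_subtype]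
        exact Subgroup.commutator_mono hPcY hPcY hxP
      have h2 : Y ≤ (_root_.commutator ↥CY).map CY.subtype := by rw [hBb, Subgroup.zpowers_le]; exact h1
      obtain ⟨w, hw', he⟩ := h2 (show (y : G) ∈ Y from hy)
      exact (show w = y from Subtype.ext he) ▸ hw'
    rcases hsimple.eq_bot_or_eq_top_of_normal ((_root_.commutator ↥CY).map (QuotientGroup.mk' YC))
      (Subgroup.Normal.map inferInstance _ (QuotientGroup.mk'_surjective _)) with h | h
    · exfalso
      refine hnab fun u v => ?_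
      obtain ⟨u, rfl⟩ := QuotientGroup.mk'_surjective YC u
      obtain ⟨v, rfl⟩ := QuotientGroup.mk'_surjective YC v
      have h1 : QuotientGroup.mk' YC ⁅u, v⁆ ∈ (_root_.commutator ↥CY).map (QuotientGroup.mk' YC) :=
        ⟨_, Subgroup.commutator_mem_commutator (Subgroup.mem_top u) (Subgroup.mem_top v), rfl⟩
      rw [h, Subgroup.mem_bot, map_commutatorElement, commutatorElement_eq_one_iff_commute] at h1
      exact h1.eq
    · refine eq_top_iff.mpr fun g _ => ?_
      obtain ⟨d, hd, he⟩ := (h ▸ Subgroup.mem_top _ : QuotientGroup.mk' YC g ∈ (_root_.commutator ↥CY).map (QuotientGroup.mk' YC))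
      rw [show g = d * (d⁻¹ * g) by group]
      exact mul_mem hd (hYle (QuotientGroup.eq.mp he))
  have hqs : Cfsg.IsQuasisimple ↥CY := by
    refine ⟨⟨hperf⟩, ?_⟩
    haveI := hsimple
    exact (QuotientGroup.quotientMulEquivOfEq hcenter).isSimpleGroup
  refine ⟨hqs, hFi, ?_⟩
  -- the normaliser
  set NY := Subgroup.normalizer (Y : Set G) with hNY
  set YN := Y.subgroupOf NY with hYN
  have hCN : CY ≤ NY := fun g hg => Subgroup.mem_normalizer_iff.mpr fun y => by
    constructor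
    · intro hy
      rw [← (Subgroup.mem_centralizer_iff.mp hg y hy), mul_inv_cancel_right]; exact hy
    · intro hy
      have h1 := Subgroup.mem_centralizer_iff.mp hg _ hy
      have h2 : y = g * y * g⁻¹ := by
        calc y = g⁻¹ * ((g * y * g⁻¹) * g) := by group
          _ = g⁻¹ * (g * (g * y * g⁻¹)) := by rw [h1]
          _ = _ := by group
      rw [h2]; exact hy
  have hcases : ∀ g ∈ NY, g ∈ CY ∨ g * x * g⁻¹ = x⁻¹ := by
    intro g hg
    have h1 : g * x * g⁻¹ ∈ Subgroup.zpowers x := hBb ▸ (Subgroup.mem_normalizer_iff.mp hg x).mp hbY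
    rcases Cfsg.Lib.JankoFour.pow_three_cases hox' h1 with h | h | h
    · exact absurd (conj_eq_one_iff.mp h) hb1
    · exact Or.inl ((hmemC g).mpr (mul_inv_eq_iff_eq_mul.mp h))
    · exact Or.inr h
  have hxinv : x⁻¹ ≠ x := fun h => hb1 (by
    calc x = x ^ 3 * (x⁻¹ * x⁻¹) := by group
      _ = 1 := by
        rw [hx3, one_mul]
        nth_rewrite 1 [h]
        exact mul_inv_cancel x)
  have hw0N : w0 ∈ NY := Subgroup.mem_normalizer_fintype fun y hy => by
    rw [hBb] at hy ⊢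
    obtain ⟨j, rfl⟩ := Subgroup.mem_zpowers_iff.mp hy
    rw [← conj_zpow, hw0x]
    exact Subgroup.zpow_mem _ (inv_mem (Subgroup.mem_zpowers x)) _
  set CN := CY.subgroupOf NY with hCN'
  have hidxN : CN.index = 2 := by
    refine Subgroup.index_eq_two_iff_exists_notMem_and.mpr ⟨⟨w0, hw0N⟩, fun h => ?_, fun g => ?_⟩
    · have h' := (hmemC w0).mp (Subgroup.mem_subgroupOf.mp h)
      rw [h', mul_inv_cancel_right] at hw0x
      exact hxinv hw0x.symm
    · rcases hcases g g.2 with h | h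
      · exact Or.inr (Subgroup.mem_subgroupOf.mpr h)
      · refine Or.inl (Subgroup.mem_subgroupOf.mpr ((hmemC _).mpr (mul_inv_eq_iff_eq_mul.mp ?_)))
        show (g : G) * w0 * x * ((g : G) * w0)⁻¹ = x
        calc (g : G) * w0 * x * ((g : G) * w0)⁻¹ = (g : G) * (w0 * x * w0⁻¹) * (g : G)⁻¹ := by group
          _ = x := by rw [hw0x, ← conj_inv, h, inv_inv]
  let j : ↥CY →* ↥NY ⧸ YN := (QuotientGroup.mk' YN).comp (Subgroup.inclusion hCN)
  have hjker : j.ker = YC := by
    ext g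
    rw [MonoidHom.mem_ker]
    exact QuotientGroup.eq_one_iff _
  have hjrange : j.range = CN.map (QuotientGroup.mk' YN) := by
    ext q
    constructor
    · rintro ⟨g, rfl⟩
      exact ⟨Subgroup.inclusion hCN g, Subgroup.mem_subgroupOf.mpr g.2, rfl⟩
    · rintro ⟨g, hg, rfl⟩
      exact ⟨⟨g, Subgroup.mem_subgroupOf.mp hg⟩, rfl⟩
  have hidx : j.range.index = 2 := by
    rw [hjrange, Subgroup.index_map_eq _ (QuotientGroup.mk'_surjective _) (by
      rw [QuotientGroup.ker_mk']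
      exact fun y hy => Subgroup.mem_subgroupOf.mpr ((hmemC _).mpr (by
        have hy' : (y : G) ∈ Subgroup.zpowers x := hBb ▸ Subgroup.mem_subgroupOf.mp hy
        obtain ⟨l, hl⟩ := Subgroup.mem_zpowers_iff.mp hy'
        rw [← hl]
        exact ((Commute.refl x).zpow_left l).eq))), hidxN]
  let φ : (↥CY ⧸ YC) ≃* ↥j.range :=
    (QuotientGroup.quotientMulEquivOfEq hjker.symm).trans (QuotientGroup.quotientKerEquivRange j)
  have hφ : ∀ g : ↥CY, ((φ (QuotientGroup.mk g) : ↥j.range) : ↥NY ⧸ YN) = j g := fun g => rfl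
  obtain ⟨R', hR'n, hT, hR'mem⟩ := type_transport φ (t := (QuotientGroup.mk (⟨z, hzC⟩ : ↥CY) : ↥CY ⧸ YC))
    (R := R) ⟨hS, N, M, hNn, hMn, hRN, hNM, hN, ⟨K, iK, iK', hK, ⟨eK⟩⟩, hMidx⟩
  refine type_m24_of_outer hidx hT fun w hwn hwz => ?_
  by_contra hno
  push Not at hno
  obtain ⟨n, rfl⟩ := QuotientGroup.mk'_surjective YN w
  -- the lift commutes with the involution
  have hzz : z * z = 1 := by rw [← pow_two, ← hw.1, pow_orderOf_eq_one]
  have hnz : (n : G) * z * (n : G)⁻¹ = z := by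
    have h1 : QuotientGroup.mk' YN (n * Subgroup.inclusion hCN ⟨z, hzC⟩) =
        QuotientGroup.mk' YN (Subgroup.inclusion hCN ⟨z, hzC⟩ * n) := by
      rw [map_mul, map_mul]; exact hwz.eq
    have h1' : (n * Subgroup.inclusion hCN ⟨z, hzC⟩)⁻¹ * (Subgroup.inclusion hCN ⟨z, hzC⟩ * n) ∈ YN :=
      QuotientGroup.eq.mp h1
    have h2 : ((n : G) * z)⁻¹ * (z * n) ∈ Y := h1'
    set β := ((n : G) * z)⁻¹ * (z * n) with hβ
    obtain ⟨l, hl⟩ := Subgroup.mem_zpowers_iff.mp (hBb ▸ h2 : β ∈ Subgroup.zpowers x)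
    have hcz : Commute z β := hl ▸ hxz.symm.zpow_right l
    have hβ3 : β ^ 3 = 1 := by
      rw [← hl, ← zpow_natCast, ← zpow_mul, mul_comm, zpow_mul, zpow_natCast, hx3, one_zpow]
    have e1 : (n : G)⁻¹ * z * n = z * β := by rw [hβ]; group
    have hβ2 : β * β = 1 := by
      calc β * β = (z * z) * (β * β) := by rw [hzz, one_mul]
        _ = z * (z * β) * β := by group
        _ = z * (β * z) * β := by rw [hcz.eq]
        _ = (z * β) * (z * β) := by group
        _ = 1 := by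
          rw [← e1]
          calc (n : G)⁻¹ * z * n * ((n : G)⁻¹ * z * n) = (n : G)⁻¹ * (z * z) * n := by group
            _ = 1 := by rw [hzz]; group
    have hone : β = 1 := by
      rw [pow_succ, pow_two, hβ2, one_mul] at hβ3
      exact hβ3
    calc (n : G) * z * (n : G)⁻¹ = (n : G) * (z * β) * (n : G)⁻¹ := by rw [hone, mul_one]
      _ = z := by rw [← e1]; group
  have hnx : (n : G) * x * (n : G)⁻¹ = x⁻¹ := by
    refine (hcases n n.2).resolve_left fun h => hwn ?_
    exact ⟨⟨n, h⟩, rfl⟩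
  -- the conjugation on the centraliser
  set K0 := Subgroup.centralizer ({z} : Set G) ⊓ CY with hK0
  set F := (fixQ Q b).map (Subgroup.subtype _) with hF
  have hFK : F ≤ K0 := by
    rintro _ ⟨q, hq, rfl⟩
    exact ⟨q.2, (hmemC _).mpr (congrArg Subtype.val (mem_fixQ.mp hq).2)⟩
  haveI hFn : (F.subgroupOf K0).Normal := by
    refine ⟨fun q hq g => ?_⟩
    obtain ⟨q', hq', he⟩ := Subgroup.mem_subgroupOf.mp hq
    let g' : ↥(Subgroup.centralizer ({z} : Set G)) := ⟨(g : G), g.2.1⟩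
    refine Subgroup.mem_subgroupOf.mpr ⟨g' * q' * g'⁻¹,
      mem_fixQ.mpr ⟨(inferInstance : Q.Normal).conj_mem _ (mem_fixQ.mp hq').1 _, Subtype.ext ?_⟩, ?_⟩
    · show (g : G) * (q' : G) * (g : G)⁻¹ * x = x * ((g : G) * (q' : G) * (g : G)⁻¹)
      have c1 : Commute (g : G) x := (hmemC _).mp g.2.2
      have c2 : Commute (q' : G) x := congrArg Subtype.val (mem_fixQ.mp hq').2
      exact ((c1.mul_left c2).mul_left c1.inv_left).eq
    · show (g : G) * (q' : G) * (g : G)⁻¹ = _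
      rw [show (q' : G) = ((q : ↥K0) : G) from he]
      rfl
  have hconjK : ∀ g : G, g ∈ K0 → (n : G) * g * (n : G)⁻¹ ∈ K0 := by
    intro g hg
    refine ⟨Subgroup.mem_centralizer_singleton_iff.mpr ?_, (hmemC _).mpr ?_⟩
    · have c1 : Commute (n : G) z := mul_inv_eq_iff_eq_mul.mp hnz
      have c2 : Commute g z := Subgroup.mem_centralizer_singleton_iff.mp hg.1
      exact ((c1.mul_left c2).mul_left c1.inv_left).eq
    · have c2 : Commute g x := (hmemC _).mp hg.2
      have := (Commute.conj_iff (n : G)).mpr c2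
      rw [hnx] at this
      exact (inv_inv x ▸ this.inv_right).eq
  let cw : ↥K0 →* ↥K0 := MonoidHom.mk' (fun g => ⟨(n : G) * g * (n : G)⁻¹, hconjK g g.2⟩)
    fun g h => Subtype.ext (by simp [mul_assoc])
  let π := QuotientGroup.mk' (F.subgroupOf K0)
  let α := π.comp cw
  have hxK : x ∈ K0 := ⟨b.2, (hmemC x).mpr rfl⟩
  have hYK : Y ≤ K0 := by rw [hBb, Subgroup.zpowers_le]; exact hxK
  have hcenY : ∀ y (hy : y ∈ Y), ∀ g : ↥K0, Commute (π ⟨y, hYK hy⟩) (π g) := fun y hy g =>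
    (show Commute (⟨y, hYK hy⟩ : ↥K0) g from Subtype.ext (Subgroup.mem_centralizer_iff.mp g.2.2 y hy)).map π
  have hkey : ∀ g : ↥K0, ∃ y, ∃ hy : y ∈ Y, α g = π ⟨y, hYK hy⟩ * π g := by
    intro g
    have h1 := hno (j ⟨g, g.2.2⟩) ⟨_, rfl⟩ (by
      rw [hφ]
      refine (show Commute (⟨(g : G), g.2.2⟩ : ↥CY) ⟨z, hzC⟩ from Subtype.ext ?_).map j
      exact (Subgroup.mem_centralizer_singleton_iff.mp g.2.1 : (g : G) * z = z * g))
    obtain ⟨_, ⟨r', hr', rfl⟩, he⟩ := h1
    obtain ⟨r, hr, hre⟩ := (hR'mem r').mp hr'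
    obtain ⟨q, hq, hqY, hqe⟩ := (hRmem r).mp hr
    rw [show ((Subgroup.subtype _) r' : ↥j.range) = φ r from hre, hqe] at he
    replace he : j ⟨(q : G), hqY⟩ = ⁅QuotientGroup.mk' YN n, j ⟨g, g.2.2⟩⁆ := he
    have h2 : QuotientGroup.mk' YN (Subgroup.inclusion hCN ⟨(q : G), hqY⟩) =
        QuotientGroup.mk' YN ⁅n, Subgroup.inclusion hCN ⟨g, g.2.2⟩⁆ := by
      rw [map_commutatorElement]; exact he
    have h3 : (q : G)⁻¹ * ⁅(n : G), (g : G)⁆ ∈ Y := by
      have := Subgroup.mem_subgroupOf.mp (QuotientGroup.eq.mp h2)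
      simpa [commutatorElement_def] using this
    set y := (q : G)⁻¹ * ⁅(n : G), (g : G)⁆ with hy
    refine ⟨y, h3, ?_⟩
    have hqF : (q : G) ∈ F := ⟨q, hq, rfl⟩
    have e1 : cw g = ⟨(q : G), hFK hqF⟩ * (⟨y, hYK h3⟩ * g) := Subtype.ext (by
      show (n : G) * g * (n : G)⁻¹ = (q : G) * (y * g)
      rw [hy, commutatorElement_def]; group)
    show π (cw g) = _
    rw [e1, map_mul, map_mul, show π ⟨(q : G), hFK hqF⟩ = 1 from
      (QuotientGroup.eq_one_iff _).mpr (Subgroup.mem_subgroupOf.mpr hqF), one_mul]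
  have hcomm : ∀ g : ↥K0, g ∈ _root_.commutator ↥K0 → α g = π g := by
    intro g hg
    have hle : _root_.commutator ↥K0 ≤ MonoidHom.eqLocus α π := by
      rw [_root_.commutator_def, Subgroup.commutator_le]
      intro g1 _ g2 _
      obtain ⟨y1, hy1, e1⟩ := hkey g1
      obtain ⟨y2, hy2, e2⟩ := hkey g2
      show α ⁅g1, g2⁆ = π ⁅g1, g2⁆
      rw [map_commutatorElement, map_commutatorElement, e1, e2]
      have a1 := hcenY y1 hy1
      have a2 := hcenY y2 hy2
      set p1 := π ⟨y1, hYK hy1⟩ with hp1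
      set p2 := π ⟨y2, hYK hy2⟩ with hp2
      have a12 : Commute p1 p2 := hp2 ▸ a1 ⟨y2, hYK hy2⟩
      simp only [commutatorElement_def, mul_inv_rev]
      calc p1 * π g1 * (p2 * π g2) * ((π g1)⁻¹ * p1⁻¹) * ((π g2)⁻¹ * p2⁻¹)
          = p1 * (π g1 * p2) * π g2 * (π g1)⁻¹ * (p1⁻¹ * (π g2)⁻¹) * p2⁻¹ := by group
        _ = p1 * (p2 * π g1) * π g2 * (π g1)⁻¹ * ((π g2)⁻¹ * p1⁻¹) * p2⁻¹ := by
          rw [(a2 g1).eq, (a1 g2).inv_left.inv_right.eq]
        _ = (p1 * p2) * (π g1 * π g2 * (π g1)⁻¹ * (π g2)⁻¹) * (p2 * p1)⁻¹ := by group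
        _ = _ := by
          rw [← a12.eq]
          have hb : Commute (p1 * p2) (π g1 * π g2 * (π g1)⁻¹ * (π g2)⁻¹) := by
            refine (((Commute.mul_right ?_ ?_).mul_right ?_).mul_right ?_)
            · exact (a1 g1).mul_left (a2 g1)
            · exact (a1 g2).mul_left (a2 g2)
            · exact ((a1 g1).mul_left (a2 g1)).inv_right
            · exact ((a1 g2).mul_left (a2 g2)).inv_right
          rw [hb.eq, mul_inv_cancel_right]
    exact hle hg
  have hxc' : (⟨x, hxK⟩ : ↥K0) ∈ _root_.commutator ↥K0 := by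
    have hPK : Pc ≤ K0 := fun p hp => by
      refine ⟨?_, hPcY hp⟩
      exact Subgroup.centralizer_le (Set.singleton_subset_iff.mpr (Set.mem_insert _ _)) (hPc hp)
    have h1 : x ∈ (_root_.commutator ↥K0).map K0.subtype := by
      rw [_root_.commutator_def, Subgroup.map_commutator, ← MonoidHom.range_eq_map, Subgroup.range_subtype]
      exact Subgroup.commutator_mono hPK hPK hxP
    obtain ⟨g, hg, he⟩ := h1
    exact (show g = ⟨x, hxK⟩ from Subtype.ext he) ▸ hg
  have h5 := hcomm _ hxc'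
  have h6 : cw ⟨x, hxK⟩ = (⟨x, hxK⟩ : ↥K0)⁻¹ := Subtype.ext hnx
  rw [show α ⟨x, hxK⟩ = π (cw ⟨x, hxK⟩) from rfl, h6] at h5
  obtain ⟨q, hq, he⟩ := Subgroup.mem_subgroupOf.mp (QuotientGroup.eq.mp h5)
  obtain ⟨m, hm⟩ := hw.2.2.1.1.1 ⟨q, (mem_fixQ.mp hq).1⟩
  have hm' : (q : G) ^ 2 ^ m = 1 := congrArg (fun t : Q => ((t : Subgroup.centralizer ({z} : Set G)) : G)) hm
  have he' : (q : G) = x * x := by simpa using he
  rw [he', ← pow_two, ← pow_mul] at hm'
  have h7 : orderOf x ∣ 2 * 2 ^ m := orderOf_dvd_of_pow_eq_one hm'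
  rw [hox', ← pow_succ'] at h7
  have := (Nat.prime_three.dvd_of_dvd_pow h7)
  norm_num at this

end Cfsg.Lib.FiMonster
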